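import Mathlib

/-!
# General lemmas on mapping cones
-/

universe u v

open CategoryTheory Category Limits HomologicalComplex

namespace Helper5.DComp

open CochainComplex HomComplex mappingCone

section general

variable {C : Type u} [Category.{v} C] [Preadditive C] [HasBinaryBiproducts C]

variable {K₁ L₁ K₂ L₂ : CochainComplex C ℤ} (φ₁ : K₁ ⟶ L₁) (φ₂ : K₂ ⟶ L₂)
  (a : K₁ ⟶ K₂) (b : L₁ ⟶ L₂) (comm : φ₁ ≫ b = a ≫ φ₂)

@[reassoc]
lemma map_f_fst_v (p q : ℤ) (hpq : p + 1 = q) :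
    (mappingCone.map φ₁ φ₂ a b comm).f p ≫ (fst φ₂).1.v p q hpq =
      (fst φ₁).1.v p q hpq ≫ a.f q := by
  simp [ext_from_iff _ q p (by omega), mappingCone.map]

@[reassoc]
lemma map_f_snd_v (p : ℤ) :
    (mappingCone.map φ₁ φ₂ a b comm).f p ≫ (snd φ₂).v p p (add_zero p) =
      (snd φ₁).v p p (add_zero p) ≫ b.f p := by
  simp [ext_from_iff _ (p + 1) p rfl, mappingCone.map]

@[reassoc]
lemma inr_map : inr φ₁ ≫ mappingCone.map φ₁ φ₂ a b comm = b ≫ inr φ₂ := by
  simp [mappingCone.map]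

lemma map_add (a' : K₁ ⟶ K₂) (b' : L₁ ⟶ L₂) (comm' : φ₁ ≫ b' = a' ≫ φ₂) :
    mappingCone.map φ₁ φ₂ (a + a') (b + b')
      (by rw [Preadditive.comp_add, Preadditive.add_comp, comm, comm']) =
      mappingCone.map φ₁ φ₂ a b comm + mappingCone.map φ₁ φ₂ a' b' comm' := by
  ext n
  simp [ext_from_iff _ (n + 1) n rfl, mappingCone.map]

lemma map_sub (a' : K₁ ⟶ K₂) (b' : L₁ ⟶ L₂) (comm' : φ₁ ≫ b' = a' ≫ φ₂) :
    mappingCone.map φ₁ φ₂ (a - a') (b - b')
      (by rw [Preadditive.comp_sub, Preadditive.sub_comp, comm, comm']) =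
      mappingCone.map φ₁ φ₂ a b comm - mappingCone.map φ₁ φ₂ a' b' comm' := by
  ext n
  simp [ext_from_iff _ (n + 1) n rfl, mappingCone.map]

/-- The endomorphism of `cone g` induced by `g` itself is null-homotopic. -/
noncomputable def mapSelfHomotopyZero {X : CochainComplex C ℤ} (g : X ⟶ X) :
    Homotopy (mappingCone.map g g g g rfl) 0 :=
  descHomotopy g _ _ 0 (inl g) (by simp [mappingCone.map]) (by simp [mappingCone.map])

end general

section linear

variable {R : Type*} [CommRing R] {C : Type u} [Category.{v} C] [Preadditive C] [Linear R C]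
  [HasBinaryBiproducts C]

variable {K₁ L₁ K₂ L₂ : CochainComplex C ℤ} (φ₁ : K₁ ⟶ L₁) (φ₂ : K₂ ⟶ L₂)
  (a : K₁ ⟶ K₂) (b : L₁ ⟶ L₂) (comm : φ₁ ≫ b = a ≫ φ₂)

lemma map_smul (r : R) :
    mappingCone.map φ₁ φ₂ (r • a) (r • b)
      (by rw [Linear.comp_smul, Linear.smul_comp, comm]) =
      r • mappingCone.map φ₁ φ₂ a b comm := by
  ext n
  simp [ext_from_iff _ (n + 1) n rfl, mappingCone.map]

end linear

end Helper5.DComp
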