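import Mathlib

/-!
# The power functor `M ↦ (ℕ → M)` on modules, with its shift operators
-/

universe u

open CategoryTheory Category Limits

namespace Helper5.DComp

variable {A : Type u} [CommRing A]

section linear

variable (M : Type*) [AddCommGroup M] [Module A M]

/-- right shift on sequences. -/
def shS : (ℕ → M) →ₗ[A] (ℕ → M) where
  toFun x n := Nat.casesOn n 0 (fun m => x m)
  map_add' x y := by
    funext n
    cases n <;> simp
  map_smul' a x := by
    funext n
    cases n <;> simp

/-- left shift on sequences. -/
def shL : (ℕ → M) →ₗ[A] (ℕ → M) where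
  toFun x n := x (n + 1)
  map_add' x y := rfl
  map_smul' a x := rfl

/-- constant at index 0. -/
def cstL : M →ₗ[A] (ℕ → M) where
  toFun m n := Nat.casesOn n m (fun _ => 0)
  map_add' x y := by
    funext n
    cases n <;> simp
  map_smul' a x := by
    funext n
    cases n <;> simp

/-- evaluation at 0. -/
def ev0L : (ℕ → M) →ₗ[A] M where
  toFun x := x 0
  map_add' x y := rfl
  map_smul' a x := rfl

variable {M}

@[simp] lemma cstL_zero (m : M) : cstL (A := A) M m 0 = m := rfl
@[simp] lemma cstL_succ (m : M) (n : ℕ) : cstL (A := A) M m (n + 1) = 0 := rfl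
@[simp] lemma ev0L_apply (x : ℕ → M) : ev0L (A := A) M x = x 0 := rfl

@[simp] lemma shS_zero (x : ℕ → M) : shS (A := A) M x 0 = 0 := rfl
@[simp] lemma shS_succ (x : ℕ → M) (n : ℕ) : shS (A := A) M x (n + 1) = x n := rfl
@[simp] lemma shL_apply (x : ℕ → M) (n : ℕ) : shL (A := A) M x n = x (n + 1) := rfl

lemma shL_shS (x : ℕ → M) : shL (A := A) M (shS (A := A) M x) = x := by
  funext n; rfl

/-- The key bijectivity: if `s` on `N` is conjugate to the right shift on sequences, then
`(y_k) ↦ (y_k - s y_{k+1})` is bijective on sequences in `N`. -/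
theorem theta_bijective {N : Type*} [AddCommGroup N] [Module A N] (s : N →ₗ[A] N)
    (e : N ≃ₗ[A] (ℕ → M)) (hs : ∀ z, e (s z) = shS (A := A) M (e z)) :
    Function.Bijective (fun y : ℕ → N => fun k => y k - s (y (k + 1))) := by
  constructor
  · intro y y' h
    have h' : ∀ k, (y k - y' k) = s (y (k + 1) - y' (k + 1)) := by
      intro k
      have := congrFun h k
      simp only at this
      rw [map_sub]
      rw [sub_eq_sub_iff_add_eq_add] at this ⊢
      rw [add_comm (y' k)] at this
      exact this
    have key : ∀ n k, e (y k - y' k) n = 0 := by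
      intro n
      induction n with
      | zero =>
        intro k
        rw [h' k, hs]; rfl
      | succ n ih =>
        intro k
        rw [h' k, hs, shS_succ]
        exact ih (k + 1)
    funext k
    have : e (y k - y' k) = 0 := by
      funext n
      exact key n k
    have := e.injective (this.trans (map_zero e).symm)
    exact sub_eq_zero.mp this
  · intro y
    let X : ℕ → ℕ → M := fun n => Nat.rec (fun k => e (y k) 0)
      (fun n ih k => e (y k) (n + 1) + ih (k + 1)) n
    refine ⟨fun k => e.symm (fun n => X n k), ?_⟩
    funext k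
    apply e.injective
    funext n
    simp only [map_sub, hs, LinearEquiv.apply_symm_apply, Pi.sub_apply]
    cases n with
    | zero => simp [X]
    | succ n =>
      simp only [shS_succ]
      change e (y k) (n + 1) + X n (k + 1) - X n (k + 1) = _
      abel

end linear

/-- The functor `M ↦ (ℕ → M)`. -/
def powF : ModuleCat.{u} A ⥤ ModuleCat.{u} A where
  obj M := ModuleCat.of A (ℕ → M)
  map u := ModuleCat.ofHom (u.hom.compLeft ℕ)
  map_id M := by
    ext x
    rfl
  map_comp u v := by
    ext x
    rfl

lemma powF_map_apply {M N : ModuleCat.{u} A} (u : M ⟶ N) (x : ℕ → M) (n : ℕ) :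
    ((powF (A := A)).map u).hom x n = u.hom (x n) := rfl

instance : (powF (A := A)).Additive where
  map_add := by
    intro M N u v
    ext x
    funext n
    rfl

instance : (powF (A := A)).PreservesHomology := by
  refine ((Functor.exact_tfae (powF (A := A))).out 1 2).mp ?_
  intro S hS
  rw [ShortComplex.moduleCat_exact_iff] at hS ⊢
  intro (y : ℕ → S.X₂) hy
  have : ∀ n, ∃ x : S.X₁, S.f.hom x = y n := by
    intro n
    apply hS
    exact congrFun hy n
  choose x hx using this
  exact ⟨x, funext hx⟩

/-- right shift as a natural transformation. -/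
def Sh : powF (A := A) ⟶ powF (A := A) where
  app M := ModuleCat.ofHom (shS (A := A) M)
  naturality M N u := by
    ext x
    funext n
    cases n with
    | zero => exact (map_zero u.hom).symm
    | succ n => rfl

/-- left shift as a natural transformation. -/
def Lf : powF (A := A) ⟶ powF (A := A) where
  app M := ModuleCat.ofHom (shL (A := A) M)
  naturality M N u := by
    ext x
    rfl

/-- constants (at index 0) as a natural transformation. -/
def cst : 𝟭 (ModuleCat.{u} A) ⟶ powF (A := A) where
  app M := ModuleCat.ofHom (cstL (A := A) M)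
  naturality M N u := by
    ext x
    funext n
    cases n with
    | zero => rfl
    | succ n => exact (map_zero u.hom).symm

/-- evaluation at 0. -/
def ev0 : powF (A := A) ⟶ 𝟭 (ModuleCat.{u} A) where
  app M := ModuleCat.ofHom (ev0L (A := A) M)
  naturality M N u := by
    ext x
    rfl

lemma Sh_Lf : Sh (A := A) ≫ Lf = 𝟙 _ := by
  ext M x
  rfl

lemma cst_Lf : cst (A := A) ≫ Lf = 0 := by
  ext M x
  rfl

lemma cst_ev0 : cst (A := A) ≫ ev0 = 𝟙 _ := by
  ext M x
  rfl

lemma Sh_ev0 : Sh (A := A) ≫ ev0 = 0 := by
  ext M x
  rfl

lemma ev0_cst_add : ev0 (A := A) ≫ cst + Lf ≫ Sh = 𝟙 _ := by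
  ext M x
  funext n
  cases n with
  | zero => exact add_zero _
  | succ n => exact zero_add _

end Helper5.DComp
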