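import Mathlib
import Groth.Agent.Lib.Helper5.DComp.Pow
import Groth.Agent.Lib.Helper5.DComp.ConeLemmas

/-!
# An explicit model for the derived `f`-completion of a complex: `cone (f - t)` on `E[[t]]`
-/

universe u

open CategoryTheory Category Limits HomologicalComplex

namespace Helper5.DComp

open CochainComplex HomComplex mappingCone

variable {A : Type u} [CommRing A] (f : A) (E : CochainComplex (ModuleCat.{u} A) ℤ)

/-- `E[[t]]`. -/
noncomputable abbrev PE : CochainComplex (ModuleCat.{u} A) ℤ :=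
  ((powF (A := A)).mapHomologicalComplex (ComplexShape.up ℤ)).obj E

/-- multiplication by `t`. -/
noncomputable def SE : PE E ⟶ PE E := (NatTrans.mapHomologicalComplex Sh (ComplexShape.up ℤ)).app E

/-- division by `t` (dropping the constant term). -/
noncomputable def LE : PE E ⟶ PE E := (NatTrans.mapHomologicalComplex Lf (ComplexShape.up ℤ)).app E

/-- constants. -/
noncomputable def ιE : E ⟶ PE E where
  f i := cst.app (E.X i)
  comm' i j _ := (cst.naturality (E.d i j)).symm

/-- constant term. -/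
noncomputable def pE : PE E ⟶ E where
  f i := ev0.app (E.X i)
  comm' i j _ := (ev0.naturality (E.d i j)).symm

lemma SE_f (i : ℤ) : (SE E).f i = Sh.app (E.X i) := rfl
lemma LE_f (i : ℤ) : (LE E).f i = Lf.app (E.X i) := rfl
lemma ιE_f (i : ℤ) : (ιE E).f i = cst.app (E.X i) := rfl
lemma pE_f (i : ℤ) : (pE E).f i = ev0.app (E.X i) := rfl

@[reassoc (attr := simp)]
lemma SE_LE : SE E ≫ LE E = 𝟙 _ := by
  ext i : 1
  exact congr_app Sh_Lf (E.X i)

@[reassoc (attr := simp)]
lemma ιE_LE : ιE E ≫ LE E = 0 := by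
  ext i : 1
  exact congr_app cst_Lf (E.X i)

@[reassoc (attr := simp)]
lemma ιE_pE : ιE E ≫ pE E = 𝟙 _ := by
  ext i : 1
  exact congr_app cst_ev0 (E.X i)

lemma pE_ιE_add : pE E ≫ ιE E + LE E ≫ SE E = 𝟙 _ := by
  ext i : 1
  exact congr_app ev0_cst_add (E.X i)

/-- `f - t`. -/
noncomputable def Psi : PE E ⟶ PE E := f • 𝟙 _ - SE E

/-- `f t⁻¹ - 1`. -/
noncomputable def nPhi : PE E ⟶ PE E := f • LE E - 𝟙 _

lemma Psi_LE : Psi f E ≫ LE E = 𝟙 _ ≫ nPhi f E := by
  simp [Psi, nPhi, Preadditive.sub_comp]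

/-- the model of the derived `f`-completion. -/
noncomputable abbrev T : CochainComplex (ModuleCat.{u} A) ℤ := mappingCone (Psi f E)

/-- the unit `E ⟶ T f E`. -/
noncomputable def η : E ⟶ T f E := ιE E ≫ inr (Psi f E)

/-- the quotient map onto `cone (f t⁻¹ - 1)`. -/
noncomputable def q : T f E ⟶ mappingCone (nPhi f E) :=
  mappingCone.map (Psi f E) (nPhi f E) (𝟙 _) (LE E) (Psi_LE f E)

@[reassoc (attr := simp)]
lemma η_q : η f E ≫ q f E = 0 := by
  rw [η, q, assoc, inr_map, ← assoc, ιE_LE, zero_comp]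

/-- The short complex `E ⟶ T f E ⟶ cone (f t⁻¹ - 1)`. -/
noncomputable abbrev sc : ShortComplex (CochainComplex (ModuleCat.{u} A) ℤ) :=
  ShortComplex.mk (η f E) (q f E) (η_q f E)

lemma split_f_r (n : ℤ) :
    (η f E).f n ≫ ((snd (Psi f E)).v n n (add_zero n) ≫ (pE E).f n) = 𝟙 (E.X n) := by
  dsimp [η]
  simp only [assoc, inr_f_snd_v_assoc]
  exact HomologicalComplex.congr_hom (ιE_pE E) n

lemma split_s_g (n : ℤ) :
    ((fst (nPhi f E)).1.v n (n + 1) rfl ≫ (inl (Psi f E)).v (n + 1) n (by omega) +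
      (snd (nPhi f E)).v n n (add_zero n) ≫ (SE E).f n ≫ (inr (Psi f E)).f n) ≫ (q f E).f n =
      𝟙 ((mappingCone (nPhi f E)).X n) := by
  dsimp [q]
  rw [ext_to_iff _ n (n + 1) rfl]
  constructor
  · simp [map_f_fst_v]
  · simp only [Preadditive.add_comp, assoc, map_f_snd_v, inl_v_snd_v_assoc, zero_comp, comp_zero,
      inr_f_snd_v_assoc, zero_add, id_comp]
    have := HomologicalComplex.congr_hom (SE_LE E) n
    dsimp at this
    rw [this, comp_id]

lemma split_id (n : ℤ) :
    ((snd (Psi f E)).v n n (add_zero n) ≫ (pE E).f n) ≫ (η f E).f n +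
      (q f E).f n ≫ ((fst (nPhi f E)).1.v n (n + 1) rfl ≫ (inl (Psi f E)).v (n + 1) n (by omega) +
      (snd (nPhi f E)).v n n (add_zero n) ≫ (SE E).f n ≫ (inr (Psi f E)).f n) =
      𝟙 ((T f E).X n) := by
  dsimp [η, q]
  rw [ext_to_iff _ n (n + 1) rfl]
  constructor
  · simp [map_f_fst_v_assoc]
  · simp only [Preadditive.add_comp, Preadditive.comp_add, assoc, inr_f_snd_v, comp_id,
      inl_v_snd_v, comp_zero, zero_add, id_comp, map_f_snd_v_assoc]
    have := HomologicalComplex.congr_hom (pE_ιE_add E) n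
    dsimp at this
    rw [← Preadditive.comp_add, this, comp_id]

noncomputable def splitting (n : ℤ) :
    ((sc f E).map (HomologicalComplex.eval _ _ n)).Splitting where
  r := (snd (Psi f E)).v n n (add_zero n) ≫ (pE E).f n
  s := (fst (nPhi f E)).1.v n (n + 1) rfl ≫ (inl (Psi f E)).v (n + 1) n (by omega) +
    (snd (nPhi f E)).v n n (add_zero n) ≫ (SE E).f n ≫ (inr (Psi f E)).f n
  f_r := split_f_r f E n
  s_g := split_s_g f E n
  id := split_id f E n

lemma sc_shortExact : (sc f E).ShortExact :=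
  HomologicalComplex.shortExact_of_degreewise_shortExact _
    (fun n => (splitting f E n).shortExact)

end Helper5.DComp
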