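import Mathlib
import Groth.Agent.Lib.Helper5.DComp.Model
import Groth.Agent.Lib.Helper5.DMod.DCMod

/-!
# Homology of `E[[t]]` and the completeness criterion
-/

universe u

open CategoryTheory Category Limits HomologicalComplex

namespace Helper5.DComp

open CochainComplex HomComplex mappingCone Helper5.DMod

variable {A : Type u} [CommRing A] (f : A)

section hP

variable (X Y : CochainComplex (ModuleCat.{u} A) ℤ)

/-- homology commutes with `E ↦ E[[t]]`. -/
noncomputable def hP (n : ℤ) : (PE X).homology n ≅ (powF (A := A)).obj (X.homology n) :=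
  (X.sc n).mapHomologyIso (powF (A := A))

variable {X Y}

lemma hP_naturality (φ : X ⟶ Y) (n : ℤ) :
    HomologicalComplex.homologyMap
        (((powF (A := A)).mapHomologicalComplex (ComplexShape.up ℤ)).map φ) n ≫ (hP Y n).hom =
      (hP X n).hom ≫ (powF (A := A)).map (HomologicalComplex.homologyMap φ n) :=
  ShortComplex.mapHomologyIso_hom_naturality
    ((HomologicalComplex.shortComplexFunctor _ _ n).map φ) (powF (A := A))

variable (X)

lemma hP_naturality_nat (τ : powF (A := A) ⟶ powF (A := A)) (n : ℤ) :
    HomologicalComplex.homologyMap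
        ((NatTrans.mapHomologicalComplex τ (ComplexShape.up ℤ)).app X) n ≫ (hP X n).hom =
      (hP X n).hom ≫ τ.app (X.homology n) := by
  have := NatTrans.app_homology τ (X.sc n)
  change _ = (hP X n).hom ≫ τ.app (X.sc n).homology
  rw [this]
  change _ = (hP X n).hom ≫ (hP X n).inv ≫ _
  rw [Iso.hom_inv_id_assoc]
  rfl

end hP

section criterion

variable (X : CochainComplex (ModuleCat.{u} A) ℤ) (s : X ⟶ X)

/-- `1 - s t⁻¹` on `X[[t]]`. -/
noncomputable def Theta : PE X ⟶ PE X :=
  𝟙 _ - ((powF (A := A)).mapHomologicalComplex (ComplexShape.up ℤ)).map s ≫ LE X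

lemma homologyMap_smul_id (n : ℤ) :
    HomologicalComplex.homologyMap (f • 𝟙 X) n = f • 𝟙 _ := by
  have := ShortComplex.homologyMap_smul
    ((HomologicalComplex.shortComplexFunctor (ModuleCat.{u} A) (ComplexShape.up ℤ) n).map (𝟙 X)) f
  rw [CategoryTheory.Functor.map_id, ShortComplex.homologyMap_id] at this
  exact this

/-- The completeness criterion. -/
theorem DC_homology_of_theta (hΘ : IsIso (Theta X s))
    (hs : ∀ n, HomologicalComplex.homologyMap s n = f • 𝟙 _) (n : ℤ) :
    DC f (X.homology n) := by
  have h1 : IsIso (HomologicalComplex.homologyMap (Theta X s) n) := inferInstance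
  have h2 : HomologicalComplex.homologyMap (Theta X s) n ≫ (hP X n).hom =
      (hP X n).hom ≫ (𝟙 _ - (powF (A := A)).map (f • 𝟙 (X.homology n)) ≫ Lf.app (X.homology n)) := by
    rw [Theta, HomologicalComplex.homologyMap_sub, HomologicalComplex.homologyMap_id,
      HomologicalComplex.homologyMap_comp, Preadditive.sub_comp, Preadditive.comp_sub, id_comp,
      comp_id, assoc]
    congr 1
    have := hP_naturality_nat X Lf n
    rw [LE, this, reassoc_of% (hP_naturality s n), hs]
  have h3 : IsIso (𝟙 _ - (powF (A := A)).map (f • 𝟙 (X.homology n)) ≫ Lf.app (X.homology n)) := by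
    have : (𝟙 _ - (powF (A := A)).map (f • 𝟙 (X.homology n)) ≫ Lf.app (X.homology n)) =
        (hP X n).inv ≫ HomologicalComplex.homologyMap (Theta X s) n ≫ (hP X n).hom := by
      rw [h2, Iso.inv_hom_id_assoc]
    rw [this]
    infer_instance
  have h4 := (ConcreteCategory.isIso_iff_bijective _).mp h3
  unfold DC
  have h5 : (Phi f (X.homology n) : (ℕ → X.homology n) → (ℕ → X.homology n)) =
      (ConcreteCategory.hom (𝟙 ((powF (A := A)).obj (X.homology n)) -
        (powF (A := A)).map (f • 𝟙 (X.homology n)) ≫ Lf.app (X.homology n)) :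
        (ℕ → X.homology n) → (ℕ → X.homology n)) := by
    funext y k
    rfl
  rw [h5]
  exact h4

end criterion

end Helper5.DComp
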