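import Mathlib
import Groth.Agent.Lib.Helper5.DComp.ModelH

/-!
# The model `T f E` has derived `f`-complete cohomology
-/

universe u

open CategoryTheory Category Limits HomologicalComplex

namespace Helper5.DComp

open CochainComplex HomComplex mappingCone Helper5.DMod

variable {A : Type u} [CommRing A]

section coneX

variable {K L : CochainComplex (ModuleCat.{u} A) ℤ} (φ : K ⟶ L)

/-- terms of a mapping cone of complexes of modules, as a product. -/
noncomputable def coneXEquiv (n m : ℤ) (h : n + 1 = m) :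
    (mappingCone φ).X n ≃ₗ[A] (K.X m × L.X n) where
  toFun z := (((fst φ).1.v n m h).hom z, ((snd φ).v n n (add_zero n)).hom z)
  map_add' x y := by simp
  map_smul' a x := by simp
  invFun w := ((inl φ).v m n (by omega)).hom w.1 + ((inr φ).f n).hom w.2
  left_inv z := by
    have := congrArg (fun g => g.hom z) (id_X φ n m h)
    simpa using this
  right_inv w := by
    obtain ⟨a, b⟩ := w
    have h1 := congrArg (fun g => g.hom a) (inl_v_fst_v φ m n (by omega))
    have h2 := congrArg (fun g => g.hom a) (inl_v_snd_v φ m n (by omega))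
    have h3 := congrArg (fun g => g.hom b) (inr_f_fst_v φ n m h)
    have h4 := congrArg (fun g => g.hom b) (inr_f_snd_v φ n)
    simp only [ModuleCat.hom_comp, LinearMap.coe_comp, Function.comp_apply, ModuleCat.hom_id,
      LinearMap.id_coe, id_eq, ModuleCat.hom_zero, LinearMap.zero_apply] at h1 h2 h3 h4
    apply Prod.ext
    · change ((fst φ).1.v n m h).hom (((inl φ).v m n (by omega)).hom a + ((inr φ).f n).hom b) = a
      rw [_root_.map_add, h1, h3, add_zero]
    · change ((snd φ).v n n (add_zero n)).hom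
        (((inl φ).v m n (by omega)).hom a + ((inr φ).f n).hom b) = b
      rw [_root_.map_add, h2, h4, zero_add]

lemma coneXEquiv_fst (n m : ℤ) (h : n + 1 = m) (z : (mappingCone φ).X n) :
    (coneXEquiv φ n m h z).1 = ((fst φ).1.v n m h).hom z := rfl

lemma coneXEquiv_snd (n m : ℤ) (h : n + 1 = m) (z : (mappingCone φ).X n) :
    (coneXEquiv φ n m h z).2 = ((snd φ).v n n (add_zero n)).hom z := rfl

end coneX

/-- `(ℕ → M₁) × (ℕ → M₂) ≃ (ℕ → M₁ × M₂)`. -/
def prodPiEquiv (M₁ M₂ : Type*) [AddCommGroup M₁] [Module A M₁] [AddCommGroup M₂] [Module A M₂] :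
    ((ℕ → M₁) × (ℕ → M₂)) ≃ₗ[A] (ℕ → M₁ × M₂) where
  toFun w k := (w.1 k, w.2 k)
  map_add' x y := rfl
  map_smul' a x := rfl
  invFun v := (fun k => (v k).1, fun k => (v k).2)
  left_inv w := rfl
  right_inv v := rfl

variable (f : A) (E : CochainComplex (ModuleCat.{u} A) ℤ)

lemma Psi_SE : Psi f E ≫ SE E = SE E ≫ Psi f E := by
  simp [Psi, Preadditive.sub_comp, Preadditive.comp_sub]

/-- the endomorphism of `T f E` induced by `t`. -/
noncomputable def Shat : T f E ⟶ T f E :=
  mappingCone.map (Psi f E) (Psi f E) (SE E) (SE E) (Psi_SE f E)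

lemma map_Psi_self :
    mappingCone.map (Psi f E) (Psi f E) (Psi f E) (Psi f E) rfl = f • 𝟙 _ - Shat f E := by
  have h1 := map_sub (Psi f E) (Psi f E) (f • 𝟙 _) (f • 𝟙 _)
    (by rw [Linear.comp_smul, Linear.smul_comp, id_comp, comp_id]) (SE E) (SE E) (Psi_SE f E)
  rw [map_smul (R := A) (Psi f E) (Psi f E) (𝟙 _) (𝟙 _) (by rw [id_comp, comp_id]) f,
    mappingCone.map_id] at h1
  exact h1

lemma homologyMap_Shat (n : ℤ) :
    HomologicalComplex.homologyMap (Shat f E) n = f • 𝟙 _ := by
  have h := (mapSelfHomotopyZero (Psi f E)).homologyMap_eq n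
  rw [map_Psi_self, HomologicalComplex.homologyMap_sub, HomologicalComplex.homologyMap_zero,
    homologyMap_smul_id, sub_eq_zero] at h
  exact h.symm

/-- terms of `T f E` as sequences. -/
noncomputable def TXEquiv (n : ℤ) :
    (T f E).X n ≃ₗ[A] (ℕ → (E.X (n + 1) × E.X n)) :=
  (coneXEquiv (Psi f E) n (n + 1) rfl).trans (prodPiEquiv (A := A) (E.X (n + 1)) (E.X n))

lemma TXEquiv_Shat (n : ℤ) (z : (T f E).X n) :
    TXEquiv f E n (((Shat f E).f n).hom z) = shS (A := A) _ (TXEquiv f E n z) := by
  have h1 := congrArg (fun g => g.hom z)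
    (map_f_fst_v (Psi f E) (Psi f E) (SE E) (SE E) (Psi_SE f E) n (n + 1) rfl)
  have h2 := congrArg (fun g => g.hom z)
    (map_f_snd_v (Psi f E) (Psi f E) (SE E) (SE E) (Psi_SE f E) n)
  simp only [ModuleCat.hom_comp, LinearMap.coe_comp, Function.comp_apply] at h1 h2
  funext k
  cases k with
  | zero =>
    apply Prod.ext
    · change (((fst (Psi f E)).1.v n (n + 1) rfl).hom (((Shat f E).f n).hom z)) 0 = 0
      rw [Shat, h1]
      rfl
    · change (((snd (Psi f E)).v n n (add_zero n)).hom (((Shat f E).f n).hom z)) 0 = 0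
      rw [Shat, h2]
      rfl
  | succ k =>
    apply Prod.ext
    · change (((fst (Psi f E)).1.v n (n + 1) rfl).hom (((Shat f E).f n).hom z)) (k + 1) = _
      rw [Shat, h1]
      rfl
    · change (((snd (Psi f E)).v n n (add_zero n)).hom (((Shat f E).f n).hom z)) (k + 1) = _
      rw [Shat, h2]
      rfl

instance isIso_Theta : IsIso (Theta (T f E) (Shat f E)) := by
  have : ∀ n, IsIso ((Theta (T f E) (Shat f E)).f n) := by
    intro n
    rw [ConcreteCategory.isIso_iff_bijective]
    have hb := theta_bijective (A := A) ((Shat f E).f n).hom (TXEquiv f E n) (TXEquiv_Shat f E n)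
    have h5 : (ConcreteCategory.hom ((Theta (T f E) (Shat f E)).f n) :
        (ℕ → (T f E).X n) → (ℕ → (T f E).X n)) =
        (fun y k => y k - ((Shat f E).f n).hom (y (k + 1))) := by
      funext y k
      rfl
    exact h5 ▸ hb
  exact HomologicalComplex.Hom.isIso_of_components _

theorem DC_homology_T (n : ℤ) : DC f ((T f E).homology n) :=
  DC_homology_of_theta f (T f E) (Shat f E) (isIso_Theta f E) (homologyMap_Shat f E) n

end Helper5.DComp
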