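import Mathlib
import Groth.Prelude.Def_DRing3
import Groth.Agent.Lib.Helper5.DComp.Model
import Groth.Agent.Lib.Helper5.DMod.HomProj
import Groth.Agent.Lib.Helper5.DMod.DCZero
import Groth.Agent.Lib.Helper5.DMod.DCExact

/-!
# The model `T f E` in the derived category: the universal property
-/

universe u

open CategoryTheory Category Limits HomologicalComplex Pretriangulated

attribute [local instance] HasDerivedCategory.standard

namespace Helper5.DComp

open CochainComplex HomComplex mappingCone DerivedCategory Helper5.DMod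

variable {A : Type u} [CommRing A] (f : A) (E : CochainComplex (ModuleCat.{u} A) ℤ)

lemma nPhi_LE : nPhi f E ≫ LE E = LE E ≫ nPhi f E := by
  simp [nPhi, Preadditive.sub_comp, Preadditive.comp_sub]

/-- the endomorphism of `cone (f t⁻¹ - 1)` induced by `t⁻¹`. -/
noncomputable def Lhat : mappingCone (nPhi f E) ⟶ mappingCone (nPhi f E) :=
  mappingCone.map (nPhi f E) (nPhi f E) (LE E) (LE E) (nPhi_LE f E)

lemma map_nPhi_self :
    mappingCone.map (nPhi f E) (nPhi f E) (nPhi f E) (nPhi f E) rfl = f • Lhat f E - 𝟙 _ := by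
  have h1 := map_sub (nPhi f E) (nPhi f E) (f • LE E) (f • LE E)
    (by rw [Linear.comp_smul, Linear.smul_comp, nPhi_LE]) (𝟙 _) (𝟙 _) (by rw [id_comp, comp_id])
  rw [map_smul (R := A) (nPhi f E) (nPhi f E) (LE E) (LE E) (nPhi_LE f E) f, mappingCone.map_id] at h1
  exact h1

lemma Q_map_smul_Lhat :
    f • (Q.map (Lhat f E)) = 𝟙 (Q.obj (mappingCone (nPhi f E))) := by
  have h := Q_map_eq_zero_of_homotopy _ (mapSelfHomotopyZero (nPhi f E))
  rw [map_nPhi_self, Functor.map_sub, Functor.map_smul, CategoryTheory.Functor.map_id,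
    sub_eq_zero] at h
  exact h

instance isIso_smul_cone : IsIso (f • 𝟙 (Q.obj (mappingCone (nPhi f E)))) := by
  refine ⟨Q.map (Lhat f E), ?_, ?_⟩
  · rw [Linear.smul_comp, id_comp, Q_map_smul_Lhat]
  · rw [Linear.comp_smul, comp_id, Q_map_smul_Lhat]

section univ

variable (I : Ideal A) [DRing.HasDerivedCompletion I]

lemma hom_eq_zero_of_isIso_smul (W Y : Dual.D A) (hf : f ∈ I) [IsIso (f • 𝟙 W)]
    (hY : DRing.IsDerivedComplete I Y) (g : W ⟶ Y) : g = 0 := by
  have hz := isZero_derivedCompletion_of_isIso_smul I W f hf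
  obtain ⟨g', hg'⟩ := (unit_comp_bijective I W Y hY).2 g
  simp only at hg'
  rw [← hg', hz.eq_of_src g' 0, comp_zero]

lemma hom_shift_eq_zero_of_isIso_smul (W Y : Dual.D A) (hf : f ∈ I) [IsIso (f • 𝟙 W)]
    (hY : DRing.IsDerivedComplete I Y) (n : ℤ) (g : W⟦n⟧ ⟶ Y) : g = 0 := by
  let e := (shiftEquiv (Dual.D A) n).toAdjunction
  apply (e.homEquiv W Y).injective
  rw [hom_eq_zero_of_isIso_smul f I W (Y⟦-n⟧) hf (isDerivedComplete_shift I hY (-n))
    (e.homEquiv W Y g)]
  exact (hom_eq_zero_of_isIso_smul f I W (Y⟦-n⟧) hf (isDerivedComplete_shift I hY (-n)) _).symm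

/-- The universal property of `E ⟶ T f E` with respect to derived `I`-complete objects, `f ∈ I`. -/
theorem η_comp_bijective (hf : f ∈ I) (Y : Dual.D A) (hY : DRing.IsDerivedComplete I Y) :
    Function.Bijective (fun g : Q.obj (T f E) ⟶ Y => Q.map (η f E) ≫ g) := by
  have hT := triangleOfSES_distinguished (sc_shortExact f E)
  constructor
  · intro g₁ g₂ h
    simp only at h
    have h0 : Q.map (η f E) ≫ (g₁ - g₂) = 0 := by
      rw [Preadditive.comp_sub, h, sub_self]
    obtain ⟨g', hg'⟩ := Triangle.yoneda_exact₂ _ hT (g₁ - g₂) h0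
    have : IsIso (f • 𝟙 (triangleOfSES (sc_shortExact f E)).obj₃) := isIso_smul_cone f E
    rw [hom_eq_zero_of_isIso_smul f I _ Y hf hY g', comp_zero] at hg'
    exact sub_eq_zero.mp hg'
  · intro m
    have hT' := inv_rot_of_distTriang _ hT
    have : IsIso (f • 𝟙 (triangleOfSES (sc_shortExact f E)).obj₃) := isIso_smul_cone f E
    obtain ⟨g, hg⟩ := Triangle.yoneda_exact₂ _ hT' m
      (hom_shift_eq_zero_of_isIso_smul f I _ Y hf hY (-1) _)
    exact ⟨g, hg.symm⟩

end univ

end Helper5.DComp
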