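import Mathlib
import Groth.Prelude.Def_DRing3
import Groth.Agent.Lib.Helper5.DComp.ModelC
import Groth.Agent.Lib.Helper5.DComp.ModelD
import Groth.Agent.Lib.Helper5.DMod.DCIdeal

/-!
# Iterating the model over a list of generators
-/

universe u

open CategoryTheory Category Limits HomologicalComplex Pretriangulated

attribute [local instance] HasDerivedCategory.standard

namespace Helper5.DComp

open CochainComplex HomComplex mappingCone DerivedCategory Helper5.DMod

variable {A : Type u} [CommRing A]

/-- `Hⁿ(Q X) ≃ Hⁿ(X)`. -/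
noncomputable def HDQEquiv (X : CochainComplex (ModuleCat.{u} A) ℤ) (n : ℤ) :
    Dual.HD A (Q.obj X) n ≃ₗ[A] X.homology n :=
  ((DerivedCategory.homologyFunctorFactors (ModuleCat.{u} A) n).app X).toLinearEquiv

lemma idc_Q_iff (J : Ideal A) (X : CochainComplex (ModuleCat.{u} A) ℤ) :
    DRing.IsDerivedComplete J (Q.obj X) ↔ ∀ g ∈ J, ∀ n : ℤ, DC g (X.homology n) := by
  rw [isDerivedComplete_iff]
  constructor
  · intro h g hg n
    exact (h g hg n).of_equiv (HDQEquiv X n)
  · intro h g hg n
    exact (h g hg n).of_equiv (HDQEquiv X n).symm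

lemma idc_Q_PE (J : Ideal A) (X : CochainComplex (ModuleCat.{u} A) ℤ)
    (h : DRing.IsDerivedComplete J (Q.obj X)) : DRing.IsDerivedComplete J (Q.obj (PE X)) := by
  rw [idc_Q_iff] at h ⊢
  intro g hg n
  have h1 : DC g (ℕ → X.homology n) := (h g hg n).pi
  exact h1.of_equiv (hP X n).toLinearEquiv.symm

variable (f : A) (E : CochainComplex (ModuleCat.{u} A) ℤ)

lemma coneTriangle_distinguished {K L : CochainComplex (ModuleCat.{u} A) ℤ} (φ : K ⟶ L) :
    Q.mapTriangle.obj (CochainComplex.mappingCone.triangle φ) ∈ distTriang (Dual.D A) :=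
  (DerivedCategory.mem_distTriang_iff _).mpr ⟨_, _, φ, ⟨Iso.refl _⟩⟩

/-- (P2): the model preserves derived completeness. -/
lemma idc_Q_T (J : Ideal A) (h : DRing.IsDerivedComplete J (Q.obj E)) :
    DRing.IsDerivedComplete J (Q.obj (T f E)) :=
  isDerivedComplete_obj₃ J _ (coneTriangle_distinguished (Psi f E)) (idc_Q_PE J E h)
    (idc_Q_PE J E h)

/-- (P4): lower bounds. -/
lemma isGE_Q_T (a : ℤ) (h : (Q.obj E).IsGE a) : (Q.obj (T f E)).IsGE (a - 1) := by
  rw [DerivedCategory.isGE_iff] at h ⊢
  have hPE : ∀ j, j < a → IsZero ((DerivedCategory.homologyFunctor (ModuleCat.{u} A) j).obj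
      (Q.obj (PE E))) := by
    intro j hj
    have h0 : IsZero (E.homology j) :=
      (h j hj).of_iso ((DerivedCategory.homologyFunctorFactors (ModuleCat.{u} A) j).app E).symm
    have h1 : IsZero ((PE E).homology j) :=
      ((powF (A := A)).map_isZero h0).of_iso (hP E j)
    exact h1.of_iso ((DerivedCategory.homologyFunctorFactors (ModuleCat.{u} A) j).app (PE E))
  intro j hj
  have hT := coneTriangle_distinguished (Psi f E)
  have ex := DerivedCategory.HomologySequence.exact₃ _ hT j (j + 1) rfl
  exact ex.isZero_of_both_zeros ((hPE j (by omega)).eq_of_src _ _)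
    ((hPE (j + 1) (by omega)).eq_of_tgt _ _)

/-- iterated model. -/
noncomputable def Tl : List A → CochainComplex (ModuleCat.{u} A) ℤ → CochainComplex (ModuleCat.{u} A) ℤ
  | [], E => E
  | (f :: l), E => T f (Tl l E)

/-- iterated unit. -/
noncomputable def ηl : (l : List A) → (E : CochainComplex (ModuleCat.{u} A) ℤ) → (E ⟶ Tl l E)
  | [], E => 𝟙 E
  | (f :: l), E => ηl l E ≫ η f (Tl l E)

lemma isGE_Q_Tl (l : List A) (a : ℤ) (h : (Q.obj E).IsGE a) :
    (Q.obj (Tl l E)).IsGE (a - l.length) := by
  induction l with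
  | nil => simpa [Tl] using h
  | cons f l ih =>
    have := isGE_Q_T f (Tl l E) _ ih
    have e : a - (l.length : ℤ) - 1 = a - ((f :: l).length : ℤ) := by
      simp only [List.length_cons, Nat.cast_add, Nat.cast_one]; ring
    rw [e] at this
    exact this

lemma idc_Q_Tl (J : Ideal A) (l : List A) (h : DRing.IsDerivedComplete J (Q.obj E)) :
    DRing.IsDerivedComplete J (Q.obj (Tl l E)) := by
  induction l with
  | nil => exact h
  | cons f l ih => exact idc_Q_T f (Tl l E) J ih

lemma DC_homology_Tl (l : List A) (g : A) (hg : g ∈ l) (n : ℤ) :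
    DC g ((Tl l E).homology n) := by
  induction l generalizing n with
  | nil => simp at hg
  | cons f l ih =>
    rcases List.mem_cons.mp hg with rfl | hg'
    · exact DC_homology_T g (Tl l E) n
    · have h1 : DRing.IsDerivedComplete (Ideal.span {g}) (Q.obj (Tl l E)) := by
        rw [idc_Q_iff]
        intro g' hg'' n
        exact DC_of_mem_span (s := {g}) (fun x hx => by
          rw [Set.mem_singleton_iff] at hx; subst hx; exact ih hg' n) hg''
      have h2 := idc_Q_T f (Tl l E) _ h1
      rw [idc_Q_iff] at h2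
      exact h2 g (Ideal.subset_span rfl) n

section univ

variable (I : Ideal A) [DRing.HasDerivedCompletion I]

lemma ηl_comp_bijective (l : List A) (hl : ∀ g ∈ l, g ∈ I) (Y : Dual.D A)
    (hY : DRing.IsDerivedComplete I Y) :
    Function.Bijective (fun g : Q.obj (Tl l E) ⟶ Y => Q.map (ηl l E) ≫ g) := by
  induction l with
  | nil =>
    have : (fun g : Q.obj (Tl [] E) ⟶ Y => Q.map (ηl [] E) ≫ g) = id := by
      funext g
      simp [ηl, Tl]
    rw [this]
    exact Function.bijective_id
  | cons f l ih =>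
    have h1 := ih (fun g hg => hl g (List.mem_cons_of_mem _ hg))
    have h2 := η_comp_bijective f (Tl l E) I (hl f (List.mem_cons_self)) Y hY
    have : (fun g : Q.obj (Tl (f :: l) E) ⟶ Y => Q.map (ηl (f :: l) E) ≫ g) =
        (fun g : Q.obj (Tl l E) ⟶ Y => Q.map (ηl l E) ≫ g) ∘
          (fun g : Q.obj (T f (Tl l E)) ⟶ Y => Q.map (η f (Tl l E)) ≫ g) := by
      funext g
      simp [ηl, Tl]
    rw [this]
    exact h1.comp h2

end univ

end Helper5.DComp
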