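import Mathlib
import Groth.Prelude.Def_DRing3
import Groth.Agent.Lib.Helper5.DComp.Iter
import Groth.Agent.Lib.Helper5.DTenLib.Basic
import Groth.Agent.Lib.Helper5.KProj.Colim

/-!
# Vanishing of maps from `f`-local objects to derived `f`-complete objects (direct proof)
-/

universe u

open CategoryTheory Category Limits HomologicalComplex

attribute [local instance] HasDerivedCategory.standard

namespace Helper5.DComp

open CochainComplex DerivedCategory Helper5.DMod Groth.Agent.Lib.Helper5.DTenLib

variable {A : Type u} [CommRing A] (f : A)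

/-- evaluation at index `i`. -/
def evI (i : ℕ) : powF (A := A) ⟶ 𝟭 (ModuleCat.{u} A) where
  app M := ModuleCat.ofHom (LinearMap.proj i)
  naturality M N u := by
    ext x
    rfl

variable (Y : CochainComplex (ModuleCat.{u} A) ℤ)

/-- the `i`-th coefficient. -/
noncomputable def prE (i : ℕ) : PE Y ⟶ Y where
  f n := (evI i).app (Y.X n)
  comm' p q _ := ((evI i).naturality (Y.d p q)).symm

variable {Y} {P : CochainComplex (ModuleCat.{u} A) ℤ}

/-- assembling a family of chain maps into a chain map to `Y[[t]]`. -/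
noncomputable def piLift (γ : ℕ → (P ⟶ Y)) : P ⟶ PE Y where
  f n := ModuleCat.ofHom (LinearMap.pi (fun i => ((γ i).f n).hom))
  comm' p q _ := by
    ext x
    funext i
    have := congrArg (fun g => g.hom x) ((γ i).comm p q)
    exact this

lemma piLift_prE (γ : ℕ → (P ⟶ Y)) (i : ℕ) : piLift γ ≫ prE Y i = γ i := by
  ext n x
  rfl

/-- assembling null-homotopies. -/
noncomputable def piHomotopy (γ : ℕ → (P ⟶ Y)) (H : ∀ i, Homotopy (γ i) 0) :
    Homotopy (piLift γ) 0 where
  hom p q := ModuleCat.ofHom (LinearMap.pi (fun i => ((H i).hom p q).hom))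
  zero p q hpq := by
    ext x i
    have := congrArg (fun g => g.hom x) ((H i).zero p q hpq)
    exact this
  comm p := by
    ext x
    funext i
    have := congrArg (fun g => g.hom x) ((H i).comm p)
    simp only [HomologicalComplex.zero_f, add_zero] at this ⊢
    exact this

variable (Y)

/-- `1 - f t⁻¹` on `Y[[t]]`. -/
noncomputable def PhiE : PE Y ⟶ PE Y := 𝟙 _ - f • LE Y

variable {Y}

lemma piLift_PhiE (γ : ℕ → (P ⟶ Y)) :
    piLift γ ≫ PhiE f Y = piLift (fun i => γ i - f • γ (i + 1)) := by
  ext n x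
  rfl

lemma homologyMap_smul' {X X' : CochainComplex (ModuleCat.{u} A) ℤ} (φ : X ⟶ X') (n : ℤ) :
    HomologicalComplex.homologyMap (f • φ) n = f • HomologicalComplex.homologyMap φ n := by
  have : f • φ = (f • 𝟙 X) ≫ φ := by rw [Linear.smul_comp, id_comp]
  rw [this, HomologicalComplex.homologyMap_comp, homologyMap_smul_id, Linear.smul_comp, id_comp]

variable (Y)

lemma quasiIso_PhiE (h : ∀ n, DC f (Y.homology n)) : QuasiIso (PhiE f Y) := by
  rw [quasiIso_iff]
  intro n
  rw [quasiIsoAt_iff_isIso_homologyMap]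
  have h2 : HomologicalComplex.homologyMap (PhiE f Y) n ≫ (hP Y n).hom =
      (hP Y n).hom ≫ (𝟙 _ - f • Lf.app (Y.homology n)) := by
    rw [PhiE, HomologicalComplex.homologyMap_sub, HomologicalComplex.homologyMap_id,
      homologyMap_smul', Preadditive.sub_comp, Preadditive.comp_sub, id_comp, comp_id,
      Linear.smul_comp, Linear.comp_smul]
    congr 2
    exact hP_naturality_nat Y Lf n
  have h3 : IsIso (𝟙 ((powF (A := A)).obj (Y.homology n)) - f • Lf.app (Y.homology n)) := by
    rw [ConcreteCategory.isIso_iff_bijective]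
    have h5 : (Phi f (Y.homology n) : (ℕ → Y.homology n) → (ℕ → Y.homology n)) =
        (ConcreteCategory.hom (𝟙 ((powF (A := A)).obj (Y.homology n)) -
          f • Lf.app (Y.homology n)) : (ℕ → Y.homology n) → (ℕ → Y.homology n)) := by
      funext y k
      rfl
    rw [← h5]
    exact h n
  have h4 : HomologicalComplex.homologyMap (PhiE f Y) n =
      (hP Y n).hom ≫ (𝟙 _ - f • Lf.app (Y.homology n)) ≫ (hP Y n).inv := by
    rw [← reassoc_of% h2, Iso.hom_inv_id, comp_id]
  rw [h4]
  infer_instance

/-- Vanishing, complex level. -/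
theorem hom_eq_zero_cx (P : CochainComplex (ModuleCat.{u} A) ℤ) [P.IsKProjective]
    [IsIso (f • 𝟙 (Q.obj P))] (hY : ∀ n, DC f (Y.homology n)) (g : Q.obj P ⟶ Q.obj Y) : g = 0 := by
  have hinj : Function.Injective (Phi f (Q.obj P ⟶ Q.obj Y)) := by
    rw [Phi_injective_iff]
    intro x hx
    choose γ hγ using fun i => exists_Q_map_eq P Y (x i)
    have hδ : ∀ i, Nonempty (Homotopy (γ i - f • γ (i + 1)) 0) := by
      intro i
      apply homotopy_of_Q_map_eq P
      rw [Functor.map_sub, Functor.map_smul, hγ, hγ, ← hx i, sub_self, Functor.map_zero]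
    have H := piHomotopy _ (fun i => (hδ i).some)
    have h1 : Q.map (piLift γ) ≫ Q.map (PhiE f Y) = 0 := by
      rw [← Functor.map_comp, piLift_PhiE, Q_map_eq_of_homotopy H, Functor.map_zero]
    have : QuasiIso (PhiE f Y) := quasiIso_PhiE f Y hY
    have h2 : Q.map (piLift γ) = 0 := by
      rw [← cancel_mono (Q.map (PhiE f Y)), h1, zero_comp]
    funext i
    rw [← hγ i, ← piLift_prE γ i, Functor.map_comp, h2, zero_comp]
    rfl
  have hsurj : Function.Surjective (fun m : (Q.obj P ⟶ Q.obj Y) => f • m) := by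
    intro m
    refine ⟨inv (f • 𝟙 (Q.obj P)) ≫ m, ?_⟩
    simp only
    rw [← Linear.smul_comp, ← id_comp (inv (f • 𝟙 (Q.obj P))), ← Linear.smul_comp,
      IsIso.hom_inv_id, id_comp]
  have := subsingleton_of_smul_surjective hinj hsurj
  exact Subsingleton.elim _ _

end Helper5.DComp
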