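import Mathlib
import Groth.Prelude.Def_DRing3
import Groth.Agent.Lib.Helper5.DComp.Vanish

/-!
# Existence of the derived completion for finitely generated ideals
-/

universe u

open CategoryTheory Category Limits HomologicalComplex Pretriangulated

attribute [local instance] HasDerivedCategory.standard

namespace Helper5.DComp

open CochainComplex DerivedCategory Helper5.DMod Groth.Agent.Lib.Helper5.KProj

variable {A : Type u} [CommRing A] (f : A)

/-- Vanishing of maps from `f`-local objects to derived complete objects. -/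
theorem hom_eq_zero_direct (J : Ideal A) (hf : f ∈ J) (W Y : Dual.D A) [IsIso (f • 𝟙 W)]
    (hY : DRing.IsDerivedComplete J Y) (g : W ⟶ Y) : g = 0 := by
  obtain ⟨P, p, hP, hp⟩ := exists_kprojective_resolution (Q.objPreimage W)
  let eW : Q.obj P ≅ W := asIso (Q.map p) ≪≫ Q.objObjPreimageIso W
  let eY : Q.obj (Q.objPreimage Y) ≅ Y := Q.objObjPreimageIso Y
  have h1 : IsIso (f • 𝟙 (Q.obj P)) := by
    have : f • 𝟙 (Q.obj P) = eW.hom ≫ (f • 𝟙 W) ≫ eW.inv := by
      rw [Linear.smul_comp, Linear.comp_smul, id_comp, eW.hom_inv_id]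
    rw [this]
    infer_instance
  have h2 : ∀ n, DC f ((Q.objPreimage Y).homology n) := by
    have := isDerivedComplete_of_iso J eY.symm hY
    rw [idc_Q_iff] at this
    exact this f hf
  have h3 := hom_eq_zero_cx f (Q.objPreimage Y) P h2 (eW.hom ≫ g ≫ eY.inv)
  have : g = eW.inv ≫ (eW.hom ≫ g ≫ eY.inv) ≫ eY.hom := by simp
  rw [this, h3, zero_comp, comp_zero]

lemma hom_shift_eq_zero_direct (J : Ideal A) (hf : f ∈ J) (W Y : Dual.D A) [IsIso (f • 𝟙 W)]
    (hY : DRing.IsDerivedComplete J Y) (n : ℤ) (g : W⟦n⟧ ⟶ Y) : g = 0 := by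
  let e := (shiftEquiv (Dual.D A) n).toAdjunction
  apply (e.homEquiv W Y).injective
  rw [hom_eq_zero_direct f J hf W (Y⟦-n⟧) (isDerivedComplete_shift J hY (-n)) (e.homEquiv W Y g)]
  exact (hom_eq_zero_direct f J hf W (Y⟦-n⟧) (isDerivedComplete_shift J hY (-n)) _).symm

variable (E : CochainComplex (ModuleCat.{u} A) ℤ)

theorem η_comp_bijective' (J : Ideal A) (hf : f ∈ J) (Y : Dual.D A)
    (hY : DRing.IsDerivedComplete J Y) :
    Function.Bijective (fun g : Q.obj (T f E) ⟶ Y => Q.map (η f E) ≫ g) := by
  have hT := triangleOfSES_distinguished (sc_shortExact f E)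
  have : IsIso (f • 𝟙 (triangleOfSES (sc_shortExact f E)).obj₃) := isIso_smul_cone f E
  constructor
  · intro g₁ g₂ h
    simp only at h
    have h0 : Q.map (η f E) ≫ (g₁ - g₂) = 0 := by
      rw [Preadditive.comp_sub, h, sub_self]
    obtain ⟨g', hg'⟩ := Triangle.yoneda_exact₂ _ hT (g₁ - g₂) h0
    rw [hom_eq_zero_direct f J hf _ Y hY g', comp_zero] at hg'
    exact sub_eq_zero.mp hg'
  · intro m
    have hT' := inv_rot_of_distTriang _ hT
    obtain ⟨g, hg⟩ := Triangle.yoneda_exact₂ _ hT' m
      (hom_shift_eq_zero_direct f J hf _ Y hY (-1) _)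
    exact ⟨g, hg.symm⟩

lemma ηl_comp_bijective' (J : Ideal A) (l : List A) (hl : ∀ g ∈ l, g ∈ J) (Y : Dual.D A)
    (hY : DRing.IsDerivedComplete J Y) :
    Function.Bijective (fun g : Q.obj (Tl l E) ⟶ Y => Q.map (ηl l E) ≫ g) := by
  induction l with
  | nil =>
    have : (fun g : Q.obj (Tl [] E) ⟶ Y => Q.map (ηl [] E) ≫ g) = id := by
      funext g
      simp [ηl, Tl]
    rw [this]
    exact Function.bijective_id
  | cons f l ih =>
    have h1 := ih (fun g hg => hl g (List.mem_cons_of_mem _ hg))
    have h2 := η_comp_bijective' f (Tl l E) J (hl f (List.mem_cons_self)) Y hY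
    have : (fun g : Q.obj (Tl (f :: l) E) ⟶ Y => Q.map (ηl (f :: l) E) ≫ g) =
        (fun g : Q.obj (Tl l E) ⟶ Y => Q.map (ηl l E) ≫ g) ∘
          (fun g : Q.obj (T f (Tl l E)) ⟶ Y => Q.map (η f (Tl l E)) ≫ g) := by
      funext g
      simp [ηl, Tl]
    rw [this]
    exact h1.comp h2

/-- existence of a universal arrow to a derived complete object. -/
theorem exists_universal (s : Finset A) (K : Dual.D A) :
    ∃ (Y : Dual.D A) (u : K ⟶ Y), DRing.IsDerivedComplete (Ideal.span (s : Set A)) Y ∧
      ∀ Y' : Dual.D A, DRing.IsDerivedComplete (Ideal.span (s : Set A)) Y' →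
        Function.Bijective (fun g : Y ⟶ Y' => u ≫ g) := by
  let E := Q.objPreimage K
  let e : Q.obj E ≅ K := Q.objObjPreimageIso K
  let l := s.toList
  have hl : ∀ g ∈ l, g ∈ Ideal.span (s : Set A) := by
    intro g hg
    exact Ideal.subset_span (Finset.mem_toList.mp hg)
  have hY : DRing.IsDerivedComplete (Ideal.span (s : Set A)) (Q.obj (Tl l E)) := by
    rw [idc_Q_iff]
    intro g hg n
    exact DC_of_mem_span (s := (s : Set A))
      (fun x hx => DC_homology_Tl E l x (Finset.mem_toList.mpr hx) n) hg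
  refine ⟨Q.obj (Tl l E), e.inv ≫ Q.map (ηl l E), hY, ?_⟩
  intro Y' hY'
  have h1 := ηl_comp_bijective' E _ l hl Y' hY'
  have h2 : Function.Bijective (fun g : Q.obj E ⟶ Y' => e.inv ≫ g) := by
    constructor
    · intro g₁ g₂ h
      simp only at h
      exact (cancel_epi e.inv).mp h
    · intro g
      exact ⟨e.hom ≫ g, by simp⟩
  have : (fun g : Q.obj (Tl l E) ⟶ Y' => (e.inv ≫ Q.map (ηl l E)) ≫ g) =
      (fun g : Q.obj E ⟶ Y' => e.inv ≫ g) ∘ (fun g : Q.obj (Tl l E) ⟶ Y' => Q.map (ηl l E) ≫ g) := by
    funext g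
    simp
  rw [this]
  exact h2.comp h1

/-- The derived completion exists for finitely generated ideals. -/
theorem hasDerivedCompletion_span (s : Finset A) :
    DRing.HasDerivedCompletion (Ideal.span (s : Set A)) := by
  have : ∀ K : Dual.D A, HasInitial (StructuredArrow K
      (ObjectProperty.ι (DRing.IsDerivedComplete (Ideal.span (s : Set A))))) := by
    intro K
    obtain ⟨Y, u, hY, hu⟩ := exists_universal s K
    let Y₀ : (DRing.IsDerivedComplete (Ideal.span (s : Set A))).FullSubcategory := ⟨Y, hY⟩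
    let X₀ : StructuredArrow K (ObjectProperty.ι (DRing.IsDerivedComplete (Ideal.span (s : Set A)))) :=
      StructuredArrow.mk (Y := Y₀) (show K ⟶ (ObjectProperty.ι _).obj Y₀ from u)
    have hX₀ : IsInitial X₀ := by
      refine IsInitial.ofUniqueHom (fun B => ?_) (fun B m => ?_)
      · exact StructuredArrow.homMk
          (ObjectProperty.homMk ((hu B.right.obj B.right.property).2 B.hom).choose)
          (show u ≫ ((hu B.right.obj B.right.property).2 B.hom).choose = B.hom from
            ((hu B.right.obj B.right.property).2 B.hom).choose_spec)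
      · apply StructuredArrow.ext
        apply ObjectProperty.hom_ext
        apply (hu B.right.obj B.right.property).1
        simp only
        have h1 := ((hu B.right.obj B.right.property).2 B.hom).choose_spec
        simp only at h1
        have h2 := StructuredArrow.w m
        dsimp at h2 ⊢
        rw [h1]
        exact (show u ≫ (StructuredArrow.Hom.right m).hom = B.hom from h2)
    exact hX₀.hasInitial
  exact isRightAdjointOfStructuredArrowInitials _

theorem hasDerivedCompletion_of_fg (I : Ideal A) (hI : I.FG) : DRing.HasDerivedCompletion I := by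
  obtain ⟨s, rfl⟩ := hI
  exact hasDerivedCompletion_span s

end Helper5.DComp
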