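import Mathlib
import Groth.Prelude.Def_DRing3
import Groth.Agent.Lib.Helper5.DComp.Iter

/-!
# Cohomological bounds for the derived completion
-/

universe u

open CategoryTheory Category Limits HomologicalComplex Pretriangulated

attribute [local instance] HasDerivedCategory.standard

namespace Helper5.DComp

open CochainComplex DerivedCategory Helper5.DMod

variable {A : Type u} [CommRing A] (I : Ideal A) [DRing.HasDerivedCompletion I]

/-- A universal arrow to a derived complete object is the derived completion. -/
lemma nonempty_iso_of_universal (K Y : Dual.D A) (u : K ⟶ Y) (hY : DRing.IsDerivedComplete I Y)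
    (hu : ∀ Y' : Dual.D A, DRing.IsDerivedComplete I Y' →
      Function.Bijective (fun g : Y ⟶ Y' => u ≫ g)) :
    Nonempty (((DRing.derivedCompletion I).obj K).obj ≅ Y) := by
  have hC := ((DRing.derivedCompletion I).obj K).property
  obtain ⟨a, ha⟩ := (unit_comp_bijective I K Y hY).2 u
  obtain ⟨b, hb⟩ := (hu _ hC).2 (DRing.toDerivedCompletion I K)
  simp only at ha hb
  refine ⟨⟨a, b, ?_, ?_⟩⟩
  · apply (unit_comp_bijective I K _ hC).1
    simp only
    rw [reassoc_of% ha, hb, comp_id]
  · apply (hu Y hY).1
    simp only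
    rw [reassoc_of% hb, ha, comp_id]

/-- the explicit model, packaged. -/
theorem exists_model (s : Finset A) (hs : Ideal.span (s : Set A) = I) (K : Dual.D A) :
    ∃ Y : Dual.D A, Nonempty (((DRing.derivedCompletion I).obj K).obj ≅ Y) ∧
      ∀ a : ℤ, K.IsGE a → Y.IsGE (a - s.card) := by
  let E := Q.objPreimage K
  let e : Q.obj E ≅ K := Q.objObjPreimageIso K
  let l := s.toList
  have hl : ∀ g ∈ l, g ∈ I := by
    intro g hg
    rw [← hs]
    exact Ideal.subset_span (Finset.mem_toList.mp hg)
  have hY : DRing.IsDerivedComplete I (Q.obj (Tl l E)) := by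
    rw [idc_Q_iff]
    intro g hg n
    rw [← hs] at hg
    exact DC_of_mem_span (s := (s : Set A))
      (fun x hx => DC_homology_Tl E l x (Finset.mem_toList.mpr hx) n) hg
  refine ⟨Q.obj (Tl l E), ?_, ?_⟩
  · refine nonempty_iso_of_universal I K _ (e.inv ≫ Q.map (ηl l E)) hY ?_
    intro Y' hY'
    have h1 := ηl_comp_bijective E I l hl Y' hY'
    have h2 : Function.Bijective (fun g : Q.obj E ⟶ Y' => e.inv ≫ g) := by
      constructor
      · intro g₁ g₂ h
        simp only at h
        exact (cancel_epi e.inv).mp h
      · intro g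
        exact ⟨e.hom ≫ g, by simp⟩
    have : (fun g : Q.obj (Tl l E) ⟶ Y' => (e.inv ≫ Q.map (ηl l E)) ≫ g) =
        (fun g : Q.obj E ⟶ Y' => e.inv ≫ g) ∘ (fun g : Q.obj (Tl l E) ⟶ Y' => Q.map (ηl l E) ≫ g) := by
      funext g
      simp
    rw [this]
    exact h2.comp h1
  · intro a ha
    have ha' : (Q.obj E).IsGE a := TStructure.t.isGE_of_iso e.symm a
    have := isGE_Q_Tl E l a ha'
    rw [Finset.length_toList] at this
    exact this

/-- lower bound for the derived completion. -/
theorem isGE_completion (s : Finset A) (hs : Ideal.span (s : Set A) = I) (K : Dual.D A) (a : ℤ)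
    (ha : K.IsGE a) : (((DRing.derivedCompletion I).obj K).obj).IsGE (a - s.card) := by
  obtain ⟨Y, ⟨e⟩, hY⟩ := exists_model I s hs K
  have := hY a ha
  exact TStructure.t.isGE_of_iso e.symm _

/-- upper bound for the derived completion. -/
theorem isLE_completion (K : Dual.D A) (b : ℤ) (hb : K.IsLE b) :
    (((DRing.derivedCompletion I).obj K).obj).IsLE b := by
  set C := ((DRing.derivedCompletion I).obj K).obj with hCdef
  have hC : DRing.IsDerivedComplete I C := ((DRing.derivedCompletion I).obj K).property
  let T := (TStructure.t.triangleLEGE b (b + 1) rfl).obj C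
  have hT : T ∈ distTriang _ := TStructure.t.triangleLEGE_distinguished b (b + 1) rfl C
  have hY : DRing.IsDerivedComplete I T.obj₃ := isDerivedComplete_truncGE I hC (b + 1)
  have g3 : T.obj₃.IsGE (b + 1) := by
    change TStructure.t.IsGE ((TStructure.t.truncGE (b + 1)).obj C) (b + 1)
    infer_instance
  have l1 : T.obj₁.IsLE b := by
    change TStructure.t.IsLE ((TStructure.t.truncLE b).obj C) b
    infer_instance
  have hπ : T.mor₂ = 0 := by
    apply (unit_comp_bijective I K T.obj₃ hY).1
    simp only
    exact (TStructure.t.zero_of_isLE_of_isGE _ b (b + 1) (by omega) hb g3).trans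
      (TStructure.t.zero_of_isLE_of_isGE _ b (b + 1) (by omega) hb g3).symm
  rw [DerivedCategory.isLE_iff]
  intro i hi
  have hiso' : IsIso ((DerivedCategory.homologyFunctor (ModuleCat.{u} A) i).map T.mor₂) :=
    Groth.Agent.Helper5.Devissage.isIso_homologyMap_mor₂ T hT i
      ((DerivedCategory.isLE_iff _ b).mp l1 i hi)
      ((DerivedCategory.isLE_iff _ b).mp l1 (i + 1) (by omega))
  rw [hπ, Functor.map_zero] at hiso'
  rw [IsZero.iff_id_eq_zero]
  have := IsIso.hom_inv_id (0 : (DerivedCategory.homologyFunctor (ModuleCat.{u} A) i).obj T.obj₂ ⟶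
    (DerivedCategory.homologyFunctor (ModuleCat.{u} A) i).obj T.obj₃)
  rw [zero_comp] at this
  exact this.symm

end Helper5.DComp
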