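import Mathlib
import Groth.Prelude.Def_DRing3
import Groth.Agent.Lib.Helper5.DComp.Main

/-!
# Left t-exactness (up to the number of generators) of the derived completion
-/

universe u

open CategoryTheory Category Limits HomologicalComplex Pretriangulated

attribute [local instance] HasDerivedCategory.standard

namespace Helper5.DComp

open CochainComplex DerivedCategory Helper5.DMod

variable {A : Type u} [CommRing A] (I : Ideal A) [DRing.HasDerivedCompletion I]

/-- surjectivity companion of `third_precomp_injective`. -/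
lemma third_precomp_surjective {K L : Dual.D A} (φ : K ⟶ L)
    {Z C : Dual.D A} (α : L ⟶ Z) (β : Z ⟶ K⟦(1 : ℤ)⟧)
    (hT₁ : Triangle.mk φ α β ∈ distTriang (Dual.D A))
    (α' : ((DRing.derivedCompletion I).obj L).obj ⟶ C)
    (β' : C ⟶ (((DRing.derivedCompletion I).obj K).obj)⟦(1 : ℤ)⟧)
    (hT₂ : Triangle.mk ((DRing.derivedCompletion I).map φ).hom α' β' ∈ distTriang (Dual.D A))
    (γ : Z ⟶ C) (h₁ : α ≫ γ = DRing.toDerivedCompletion I L ≫ α')
    (h₂ : β ≫ (DRing.toDerivedCompletion I K)⟦(1 : ℤ)⟧' = γ ≫ β')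
    (Y : Dual.D A) (hY : DRing.IsDerivedComplete I Y) (m : Z ⟶ Y) : ∃ g : C ⟶ Y, γ ≫ g = m := by
  have hnat : φ ≫ DRing.toDerivedCompletion I L =
      DRing.toDerivedCompletion I K ≫ ((DRing.derivedCompletion I).map φ).hom :=
    (DRing.derivedCompletionAdj I).unit.naturality φ
  obtain ⟨n, hn⟩ := (unit_comp_bijective I L Y hY).2 (α ≫ m)
  simp only at hn
  have s2 : ((DRing.derivedCompletion I).map φ).hom ≫ n = 0 := by
    apply (unit_comp_bijective I K Y hY).1
    simp only
    have h0 : φ ≫ α = 0 := comp_distTriang_mor_zero₁₂ _ hT₁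
    rw [← reassoc_of% hnat, hn, reassoc_of% h0, zero_comp, comp_zero]
  obtain ⟨g₀, hg₀⟩ : ∃ g₀ : C ⟶ Y, n = α' ≫ g₀ := Triangle.yoneda_exact₂ _ hT₂ n s2
  have s4 : α ≫ (γ ≫ g₀ - m) = 0 := by
    rw [Preadditive.comp_sub, reassoc_of% h₁, ← hg₀, hn, sub_self]
  obtain ⟨h, hh⟩ : ∃ h : K⟦(1 : ℤ)⟧ ⟶ Y, γ ≫ g₀ - m = β ≫ h :=
    Triangle.yoneda_exact₃ _ hT₁ (γ ≫ g₀ - m) s4
  obtain ⟨h', hh'⟩ := (unit_shift_comp_bijective I K Y hY 1).2 h
  simp only at hh'
  refine ⟨g₀ - β' ≫ h', ?_⟩
  rw [Preadditive.comp_sub, ← reassoc_of% h₂, hh', ← hh]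
  abel

/-- the cone of the completed map is the completion of the cone. -/
lemma nonempty_iso_cone {K L : Dual.D A} (φ : K ⟶ L)
    {Z C : Dual.D A} (α : L ⟶ Z) (β : Z ⟶ K⟦(1 : ℤ)⟧)
    (hT₁ : Triangle.mk φ α β ∈ distTriang (Dual.D A))
    (α' : ((DRing.derivedCompletion I).obj L).obj ⟶ C)
    (β' : C ⟶ (((DRing.derivedCompletion I).obj K).obj)⟦(1 : ℤ)⟧)
    (hT₂ : Triangle.mk ((DRing.derivedCompletion I).map φ).hom α' β' ∈ distTriang (Dual.D A)) :
    Nonempty (((DRing.derivedCompletion I).obj Z).obj ≅ C) := by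
  have hnat : φ ≫ DRing.toDerivedCompletion I L =
      DRing.toDerivedCompletion I K ≫ ((DRing.derivedCompletion I).map φ).hom :=
    (DRing.derivedCompletionAdj I).unit.naturality φ
  obtain ⟨γ, h₁, h₂⟩ := complete_distinguished_triangle_morphism _ _ hT₁ hT₂
    (DRing.toDerivedCompletion I K) (DRing.toDerivedCompletion I L) hnat
  have hC : DRing.IsDerivedComplete I C :=
    isDerivedComplete_obj₃ I _ hT₂ ((DRing.derivedCompletion I).obj K).property
      ((DRing.derivedCompletion I).obj L).property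
  refine nonempty_iso_of_universal I Z C γ hC ?_
  intro Y hY
  constructor
  · intro g₁ g₂ h
    simp only at h
    have := third_precomp_injective I φ α β hT₁ α' β' hT₂ γ h₁ h₂ Y hY (g₁ - g₂)
      (by rw [Preadditive.comp_sub, h, sub_self])
    exact sub_eq_zero.mp this
  · intro m
    exact third_precomp_surjective I φ α β hT₁ α' β' hT₂ γ h₁ h₂ Y hY m

open DerivedCategory.HomologySequence in
theorem completion_left_t_exact (s : Finset A) (hs : Ideal.span (s : Set A) = I)
    {K L : Dual.D A} (φ : K ⟶ L)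
    (hiso : ∀ i : ℤ, i ≤ -1 → IsIso ((DerivedCategory.homologyFunctor (ModuleCat.{u} A) i).map φ))
    (hmono : Mono ((DerivedCategory.homologyFunctor (ModuleCat.{u} A) 0).map φ)) :
    (∀ i : ℤ, i ≤ -(s.card : ℤ) - 1 →
        IsIso ((DerivedCategory.homologyFunctor (ModuleCat.{u} A) i).map
          ((DRing.derivedCompletion I).map φ).hom)) ∧
      Mono ((DerivedCategory.homologyFunctor (ModuleCat.{u} A) (-(s.card : ℤ))).map
        ((DRing.derivedCompletion I).map φ).hom) := by
  obtain ⟨Z, α, β, hT₁⟩ := distinguished_cocone_triangle φ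
  obtain ⟨C, α', β', hT₂⟩ := distinguished_cocone_triangle ((DRing.derivedCompletion I).map φ).hom
  have hZ : Z.IsGE 0 := by
    rw [DerivedCategory.isGE_iff]
    intro i hi
    have he : Epi ((DerivedCategory.homologyFunctor (ModuleCat.{u} A) i).map φ) := by
      have := hiso i (by omega); infer_instance
    have hm : Mono ((DerivedCategory.homologyFunctor (ModuleCat.{u} A) (i + 1)).map φ) := by
      by_cases h0 : i + 1 = 0
      · rw [h0]; exact hmono
      · have := hiso (i + 1) (by omega); infer_instance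
    exact isZero_homology_obj₃ (Triangle.mk φ α β) hT₁ i he hm
  obtain ⟨e⟩ := nonempty_iso_cone I φ α β hT₁ α' β' hT₂
  have hC : C.IsGE (0 - (s.card : ℤ)) := by
    have := isGE_completion I s hs Z 0 hZ
    exact TStructure.t.isGE_of_iso e _
  rw [DerivedCategory.isGE_iff] at hC
  constructor
  · intro i hi
    exact Groth.Agent.Helper5.Devissage.isIso_homologyMap_mor₁ _ hT₂ i (hC (i - 1) (by omega))
      (hC i (by omega))
  · exact (mono_homologyMap_mor₁_iff (Triangle.mk _ α' β') hT₂ (-(s.card : ℤ) - 1)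
      (-(s.card : ℤ)) (by omega)).mpr ((hC (-(s.card : ℤ) - 1) (by omega)).eq_of_src _ _)

end Helper5.DComp
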