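import Mathlib
import Groth.Prelude.Def_DRing3
import Groth.Prelude.Def_DDual2
import Groth.Agent.Lib.Helper5.DComp.Exist
import Groth.Agent.Lib.Helper5.DMod.DCRestrict
import Groth.Agent.Lib.Helper5.DRing.PCHom

/-!
# Derived `f`-completeness as orthogonality to `D(A_f)`
-/

universe u

open CategoryTheory Category Limits

attribute [local instance] HasDerivedCategory.standard

namespace Helper5.DComp

open DerivedCategory Helper5.DMod

variable {A : Type u} [CommRing A] (f : A)

lemma isIso_smul_id_of_bijective (W : Dual.D A)
    (h : ∀ n : ℤ, Function.Bijective (fun x : Dual.HD A W n => f • x)) : IsIso (f • 𝟙 W) := by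
  rw [DerivedCategory.isIso_iff]
  intro n
  rw [homologyFunctor_map_smul_id, ConcreteCategory.isIso_iff_bijective]
  convert h n using 1
  funext x
  rfl

theorem orth_iff (K : Dual.D A) :
    (∀ n : ℤ, Subsingleton (Dual.inD A (Localization.Away f) ⟶ K⟦n⟧)) ↔
      ∀ E : Dual.D (Localization.Away f),
        Subsingleton ((DRing.restrictD (algebraMap A (Localization.Away f))).obj E ⟶ K) := by
  constructor
  · intro h E
    have hDC := (forall_subsingleton_iff_forall_DC f K).mp h
    have hK : DRing.IsDerivedComplete (Ideal.span {f}) K := by
      rw [isDerivedComplete_iff]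
      intro g hg n
      exact DC_of_mem_span (s := {f}) (fun x hx => by
        rw [Set.mem_singleton_iff] at hx; subst hx; exact hDC n) hg
    have hiso : IsIso (f • 𝟙 ((DRing.restrictD (algebraMap A (Localization.Away f))).obj E)) := by
      apply isIso_smul_id_of_bijective
      intro n
      have hu : IsUnit (algebraMap A (Localization.Away f) f) :=
        IsLocalization.Away.algebraMap_isUnit f
      let e := HDrestrictEquiv (algebraMap A (Localization.Away f)) E n
      have hb : Function.Bijective (fun x : ((ModuleCat.restrictScalars
          (algebraMap A (Localization.Away f))).obj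
          ((DerivedCategory.homologyFunctor (ModuleCat.{u} (Localization.Away f)) n).obj E)) =>
          f • x) := by
        constructor
        · intro x y hxy
          have h1 : (algebraMap A (Localization.Away f) f) • (show
              ((DerivedCategory.homologyFunctor (ModuleCat.{u} (Localization.Away f)) n).obj E)
              from x) = (algebraMap A (Localization.Away f) f) • (show
              ((DerivedCategory.homologyFunctor (ModuleCat.{u} (Localization.Away f)) n).obj E)
              from y) := hxy
          exact hu.smul_left_cancel.mp h1
        · intro y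
          refine ⟨(show ((DerivedCategory.homologyFunctor (ModuleCat.{u} (Localization.Away f)) n).obj E)
            from (↑hu.unit⁻¹ : Localization.Away f) • (show
              ((DerivedCategory.homologyFunctor (ModuleCat.{u} (Localization.Away f)) n).obj E)
              from y)), ?_⟩
          change (algebraMap A (Localization.Away f) f) • ((↑hu.unit⁻¹ : Localization.Away f) • (show
              ((DerivedCategory.homologyFunctor (ModuleCat.{u} (Localization.Away f)) n).obj E)
              from y)) = y
          rw [smul_smul, IsUnit.mul_val_inv, one_smul]
      constructor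
      · intro x y hxy
        apply e.injective
        apply hb.1
        simp only
        rw [← _root_.map_smul, ← _root_.map_smul]
        exact congrArg e hxy
      · intro y
        obtain ⟨x, hx⟩ := hb.2 (e y)
        refine ⟨e.symm x, ?_⟩
        apply e.injective
        simp only at hx ⊢
        rw [_root_.map_smul, LinearEquiv.apply_symm_apply, hx]
    exact ⟨fun a b => (hom_eq_zero_direct f (Ideal.span {f})
        (Ideal.subset_span (Set.mem_singleton f)) _ K hK a).trans
      (hom_eq_zero_direct f (Ideal.span {f}) (Ideal.subset_span (Set.mem_singleton f)) _ K hK b).symm⟩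
  · intro h n
    let F := DRing.restrictD (algebraMap A (Localization.Away f))
    let E₀ : Dual.D (Localization.Away f) :=
      (DerivedCategory.singleFunctor _ 0).obj (ModuleCat.of (Localization.Away f) (Localization.Away f))
    let e1 : Dual.inD A (Localization.Away f) ≅ F.obj E₀ :=
      (DerivedCategory.singleFunctor _ 0).mapIso
        (Groth.Agent.Helper5.PCHom.algEquiv (B := A) (C := Localization.Away f)).toModuleIso.symm ≪≫
      (Groth.Agent.Helper5.PCHom.restrictDSingle (algebraMap A (Localization.Away f))
        (ModuleCat.of (Localization.Away f) (Localization.Away f))).symm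
    let e2 : (Dual.inD A (Localization.Away f))⟦-n⟧ ≅ F.obj (E₀⟦-n⟧) :=
      (shiftFunctor (Dual.D A) (-n)).mapIso e1 ≪≫ ((F.commShiftIso (-n)).app E₀).symm
    have h1 : Subsingleton ((Dual.inD A (Localization.Away f))⟦-n⟧ ⟶ K) := by
      have := h (E₀⟦-n⟧)
      exact (Iso.homFromEquiv e2 (Z := K)).subsingleton
    have h2 : Subsingleton ((shiftEquiv' (Dual.D A) (-n) n (neg_add_cancel n)).functor.obj
        (Dual.inD A (Localization.Away f)) ⟶ K) := h1
    exact ((shiftEquiv' (Dual.D A) (-n) n (neg_add_cancel n)).toAdjunction.homEquiv
      (Dual.inD A (Localization.Away f)) K).symm.subsingleton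

end Helper5.DComp
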